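import Groth.Agent.Lib.NumPoly18.Num
import Groth.Agent.Lib.AmpleFin18.Birational
import Groth.Agent.Lib.SecDiv18.Peel
import Groth.Agent.Lib.VarDim.Scheme
import Groth.Agent.Lib.DimF18.Basic

/-!
# Intersection numbers under a proper map which is an isomorphism outside a point
-/

set_option autoImplicit false
set_option linter.style.haveILetI false
set_option linter.unusedSectionVars false
set_option maxHeartbeats 1000000
set_option backward.isDefEq.respectTransparency false

universe u

open CategoryTheory CategoryTheory.Limits AlgebraicGeometry TopologicalSpace Opposite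
open Groth.Agent Groth.Agent.NumPoly18

namespace Groth.Agent.BlowInt10

variable {k : Type u} [Field k]

/-- A dimension bound from a bound on specialisation chains. -/
theorem dim_le_of_chains {X : Scheme.{u}} {n : ℕ}
    (h : ∀ a : Fin (n + 2) → X, (∀ i j : Fin (n + 2), i < j → a j ⤳ a i ∧ a i ≠ a j) → False) :
    topologicalKrullDim X ≤ (n : WithBot ℕ∞) := by
  rw [VarDim.scheme_dim_eq_iSup_height]
  refine iSup_le fun x => WithBot.coe_le_coe.2 (Order.height_le fun s _ => ?_)
  by_contra hlt
  rw [not_le] at hlt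
  have hl : n + 1 ≤ s.length := by exact_mod_cast Order.add_one_le_of_lt hlt
  refine h (fun i => s ⟨i.1, by omega⟩) fun i j hij => ?_
  have hs : s ⟨i.1, by omega⟩ < s ⟨j.1, by omega⟩ := s.strictMono (Fin.mk_lt_mk.2 hij)
  exact VarDim.lt_iff_specializes_and_ne.1 hs

theorem chain_false_of_dim_le {X : Scheme.{u}} {n : ℕ} (hd : topologicalKrullDim X ≤ (n : WithBot ℕ∞))
    (a : Fin (n + 2) → X) (h : ∀ i j : Fin (n + 2), i < j → a j ⤳ a i ∧ a i ≠ a j) : False := by
  let s : LTSeries X := LTSeries.mk (n + 1) a fun i j hij => VarDim.lt_iff_specializes_and_ne.2 (h i j hij)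
  have h1 : ((n + 1 : ℕ) : ℕ∞) ≤ Order.height (a (Fin.last (n + 1))) := Order.length_le_height_last (p := s)
  rw [VarDim.scheme_dim_eq_iSup_height, iSup_le_iff] at hd
  have h2 := h1.trans (WithBot.coe_le_coe.1 (hd (a (Fin.last (n + 1)))))
  exact absurd (ENat.coe_le_coe.1 h2) (by omega)

variable {X : Scheme.{u}} [X.Over (Spec (CommRingCat.of k))]

theorem dim_le_of_components (hdim : ∀ Z ∈ irreducibleComponents (X : Type u), topologicalKrullDim Z = 2) :
    topologicalKrullDim X ≤ ((2 : ℕ) : WithBot ℕ∞) := by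
  rw [VarDim.scheme_dim_eq_iSup_height]
  refine iSup_le fun x => ?_
  have h := hdim _ (irreducibleComponent_mem_irreducibleComponents x)
  rw [VarDim.topologicalKrullDim_isClosed_eq_iSup_height isClosed_irreducibleComponent] at h
  refine le_trans ?_ h.le
  exact le_iSup (fun z : irreducibleComponent x => ((Order.height (z : X) : ℕ∞) : WithBot ℕ∞)) ⟨x, mem_irreducibleComponent⟩

theorem ringKrullDim_stalk_of_components [IsProper (X ↘ Spec (CommRingCat.of k))]
    (hdim : ∀ Z ∈ irreducibleComponents (X : Type u), topologicalKrullDim Z = 2) {x : X}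
    (hx : IsClosed ({x} : Set X)) : ringKrullDim (X.presheaf.stalk x) = 2 := by
  haveI : IsNoetherian X := CohFound.isNoetherian_of_isProper (X ↘ Spec (CommRingCat.of k))
  let q := X ↘ Spec (CommRingCat.of k)
  rw [ringKrullDim_stalk_eq_coheight]
  refine le_antisymm ?_ ?_
  · refine le_trans (Order.coheight_le_krullDim x) ?_
    have h := dim_le_of_components hdim
    rw [VarDim.scheme_dim_eq_iSup_height] at h
    rw [Order.krullDim_eq_iSup_height]
    exact h
  · have hc : IsClosed (irreducibleComponent x) := isClosed_irreducibleComponent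
    have hi : IsIrreducible (irreducibleComponent x) := isIrreducible_irreducibleComponent
    have h2 := hdim _ (irreducibleComponent_mem_irreducibleComponents x)
    rw [VarDim.dim_irreducible_isClosed q hc hi] at h2
    have h2' : VarDim.sdim q hi.genericPoint = 2 := by exact_mod_cast h2
    have hs : hi.genericPoint ⤳ x := by
      rw [specializes_iff_mem_closure, hi.closure_genericPoint hc]
      exact mem_irreducibleComponent
    have h3 := DimF18.sdim_le_add_coheight q hs
    rw [h2', (VarDim.sdim_eq_zero_iff_isClosed q x).2 hx, Nat.cast_zero, zero_add] at h3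
    exact WithBot.coe_le_coe.2 h3

section Unit

variable {X' : Scheme.{u}} (f : X' ⟶ X) (U : X.Opens) [IsIso (f ∣_ U)]

omit [X.Over (Spec (CommRingCat.of k))] in
theorem bijective_stalk_pushUnit {z : X} (hz : z ∈ U) :
    Function.Bijective ((M1.stalkAb z).map (AmpleFin18.pushUnit f)) := by
  let φ := AmpleFin18.pushUnit f
  have hgerm : ∀ (V : X.Opens) (hzV : z ∈ V) (s : Γ(Coh.structureModule X, V)),
      (M1.stalkAb z).map φ ((Coh.structureModule X).presheaf.germ V z hzV s) =
        ((Scheme.Modules.pushforward f).obj (Coh.structureModule X')).presheaf.germ V z hzV (φ.app V s) :=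
    fun V hzV s => TopCat.Presheaf.stalkFunctor_map_germ_apply V z hzV φ.mapPresheaf s
  refine ⟨(injective_iff_map_eq_zero ((M1.stalkAb z).map φ).hom).2 fun a ha => ?_, fun b => ?_⟩
  · obtain ⟨V, hzV, s, rfl⟩ := (Coh.structureModule X).presheaf.exists_germ_eq a
    have ha' := ha
    rw [show ((M1.stalkAb z).map φ).hom ((Coh.structureModule X).presheaf.germ V z hzV s) =
      _ from hgerm V hzV s] at ha'
    obtain ⟨W, hzW, i₁, i₂, he⟩ := ((Scheme.Modules.pushforward f).obj (Coh.structureModule X')).presheaf.germ_eq z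
      (U := V) (V := V) hzV hzV (φ.app V s) 0 (ha'.trans (map_zero _).symm)
    have hle : W ⊓ U ≤ V := inf_le_left.trans i₁.le
    have h0 : φ.app (W ⊓ U) (M1.mres (Coh.structureModule X) hle s) = 0 := by
      rw [M1.app_mres]
      have he' := congrArg (((Scheme.Modules.pushforward f).obj (Coh.structureModule X')).presheaf.map
        (homOfLE (inf_le_left : W ⊓ U ≤ W)).op) he
      rw [map_zero, map_zero, ← CategoryTheory.comp_apply, ← Functor.map_comp] at he'
      exact he'
    have h1 := (AmpleFin18.bijective_pushUnit_app f U (W ⊓ U) inf_le_right).1 (h0.trans (map_zero _).symm)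
    rw [← M1.germ_mres (Coh.structureModule X) hle (x := z) ⟨hzW, hz⟩ s, h1, map_zero]
  · obtain ⟨V, hzV, t, rfl⟩ := ((Scheme.Modules.pushforward f).obj (Coh.structureModule X')).presheaf.exists_germ_eq b
    obtain ⟨s, hs⟩ := (AmpleFin18.bijective_pushUnit_app f U (V ⊓ U) inf_le_right).2
      (M1.mres _ (inf_le_left : V ⊓ U ≤ V) t)
    refine ⟨(Coh.structureModule X).presheaf.germ (V ⊓ U) z ⟨hzV, hz⟩ s, ?_⟩
    rw [hgerm, hs, M1.germ_mres]

omit [X.Over (Spec (CommRingCat.of k))] in
theorem support_kernel_cokernel :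
    CohB1.support (kernel (AmpleFin18.pushUnit f)) ⊆ (U : Set X)ᶜ ∧
      CohB1.support (cokernel (AmpleFin18.pushUnit f)) ⊆ (U : Set X)ᶜ := by
  refine ⟨fun z hz hzU => (M1.notMem_support_iff _ z).2 (fun c => ?_) hz,
    fun z hz hzU => (CohFound.notMem_support_cokernel_iff _ z).2 (bijective_stalk_pushUnit f U hzU).2 hz⟩
  refine (M1.mono_iff_stalk (kernel.ι (AmpleFin18.pushUnit f))).mp inferInstance z ?_
  refine (bijective_stalk_pushUnit f U hzU).1 ?_
  rw [← CategoryTheory.comp_apply, ← Functor.map_comp, kernel.condition, Functor.map_zero]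
  exact ((congrArg _ (map_zero _)).trans (map_zero _)).symm

variable [IsProper (X ↘ Spec (CommRingCat.of k))]

/-- Intersection numbers on `f_* O` are those on `O` when `f` is an isomorphism outside a finite set. -/
theorem md_pushUnit [IsProper f] {r : ℕ} (hr : 0 < r) (hdimU : topologicalKrullDim ↥((U : Set X)ᶜ) ≤ ((0 : ℕ) : WithBot ℕ∞))
    {L : Fin r → X.Modules} (hL : ∀ i, PicF.IsInvertible (L i)) (hP : Coh.IsCoh ((Scheme.Modules.pushforward f).obj (Coh.structureModule X'))) :
    md k L ((Scheme.Modules.pushforward f).obj (Coh.structureModule X')) = md k L (Coh.structureModule X) := by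
  haveI : IsNoetherian X := CohFound.isNoetherian_of_isProper (X ↘ Spec (CommRingCat.of k))
  have hO := M1.isCoh_structureModule X
  obtain ⟨hk, hc⟩ := support_kernel_cokernel f U
  have hkc := M1.isCoh_kernel hO hP.1 (AmpleFin18.pushUnit f)
  have hcc := M1.isCoh_cokernel hO.1 hP (AmpleFin18.pushUnit f)
  rw [md_hom hL (AmpleFin18.pushUnit f) hO hP,
    md_eq_zero hL hcc ((Snapper.dim_le_of_subset hc le_rfl).trans hdimU) hr,
    md_eq_zero hL hkc ((Snapper.dim_le_of_subset hk le_rfl).trans hdimU) hr]
  ring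

end Unit

/-! ### Two modules -/

variable [IsProper (X ↘ Spec (CommRingCat.of k))]

theorem intNum2_eq_md (hd : topologicalKrullDim X ≤ ((2 : ℕ) : WithBot ℕ∞)) {A B : X.Modules}
    (hA : PicF.IsInvertible A) (hB : PicF.IsInvertible B) {F : X.Modules} (hF : Coh.IsCoh F) :
    (FGA.intNum k X 2 ![A, B] F : ℚ) = md k (Fin.cons A (fun _ : Fin 1 => B) : Fin 2 → X.Modules) F := by
  have e : (![A, B] : Fin 2 → X.Modules) = (Fin.cons A (fun _ : Fin 1 => B) : Fin 2 → X.Modules) :=
    funext fun i => by fin_cases i <;> rfl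
  rw [e, intNum_eq_mixedDiff hd (isInvertible_cons hA fun _ => hB) hF, md]
  norm_num

/-- A product with the ideal of a divisor is minus the degree on the divisor. -/
theorem md_idealMod {A : X.Modules} (hA : PicF.IsInvertible A) {D : X.IdealSheafData}
    (hD : BlowUp.IsEffCartierIdeal D) :
    md k (Fin.cons A (fun _ : Fin 1 => ClSub.idealMod D) : Fin 2 → X.Modules) (Coh.structureModule X) =
      -cdeg k A (ClSub.quotMod D) := by
  haveI : IsNoetherian X := CohFound.isNoetherian_of_isProper (X ↘ Spec (CommRingCat.of k))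
  have hI := M2.isInvertible_idealMod D hD
  let O := Coh.structureModule X
  let I := ClSub.idealMod D
  have h1 := md_shortExact (k := k) (L := fun _ : Fin 1 => A) (fun _ => hA) (M2.shortExact_idealMod D)
    (Snapper.isCoh_of_isInvertible hI) (M1.isCoh_structureModule X) (CurveCoh17.isCoh_quotMod D)
  change cdeg k A O = cdeg k A I + cdeg k A (ClSub.quotMod D) at h1
  have h2 : (Curv2.euler k X (CohB1.tensorMod (CohB1.tensorMod O A) I) : ℚ) = Curv2.euler k X (CohB1.tensorMod I A) := by
    rw [CurveCoh17.euler_iso (M2.tensorIso (M2.tensorLUnit A) (Iso.refl I) ≪≫ M2.tensorComm A I)]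
  rw [md_cons]
  change cdeg k I (CohB1.tensorMod O A) - cdeg k I O = _
  rw [cdeg_eq, cdeg_eq, h2]
  rw [cdeg_eq, cdeg_eq] at h1
  have h3 : (Curv2.euler k X (CohB1.tensorMod O I) : ℚ) = Curv2.euler k X I := by
    rw [CurveCoh17.euler_iso (M2.tensorLUnit I)]
  have h4 : (Curv2.euler k X (CohB1.tensorMod O A) : ℚ) = Curv2.euler k X A := by
    rw [CurveCoh17.euler_iso (M2.tensorLUnit A)]
  rw [h4] at h1
  rw [h3, h4]
  linarith

end Groth.Agent.BlowInt10
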